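import Cfsg.Agent.AltCent.Fixed
import Cfsg.Agent.AltCent.FiveB.Data
import Cfsg.Agent.AltCent.FiveB.Reps
import Cfsg.Agent.AltCent.FiveB.Terms0
import Cfsg.Agent.AltCent.FiveB.Terms1
import Cfsg.Agent.AltCent.FiveB.Terms2
import Cfsg.Agent.AltCent.FiveB.Terms3
import Cfsg.Agent.AltCent.FiveB.Terms4
import Cfsg.Agent.AltCent.FiveB.Terms5
import Cfsg.Agent.AltCent.FiveB.Terms6
import Cfsg.Agent.AltCent.FiveB.Terms7
import Cfsg.Agent.AltCent.FiveB.Terms8
import Cfsg.Agent.AltCent.FiveB.Terms9
import Cfsg.Agent.AltCent.FiveB.Terms10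
import Cfsg.Agent.AltCent.FiveB.Terms11

/-! # FiveB: conclusion (generated certificate data) -/

set_option autoImplicit false
set_option maxRecDepth 100000
set_option maxHeartbeats 4000000

namespace CfsgLib.AltCent.FiveB

def terms : List Term := terms0 ++ terms1 ++ terms2 ++ terms3 ++ terms4 ++ terms5 ++ terms6 ++ terms7 ++ terms8 ++ terms9 ++ terms10 ++ terms11

theorem sum_ok : eqMod 5 (termPairs 5 bases T B terms) [(0, 1)] [(1, 2), (2, 1), (3, 6), (4, 2), (5, 5), (6, 3), (7, 6), (8, 5), (9, 6), (10, 4), (11, 5), (12, 3), (13, 4), (14, 3), (15, 4), (16, 4), (17, 4), (18, 6), (19, 6), (20, 5), (21, 2), (22, 3), (23, 1), (24, 4), (25, 5), (26, 2), (27, 5), (28, 5), (29, 5), (30, 3), (31, 4), (32, 4), (33, 4), (34, 6), (35, 5), (36, 2), (37, 8), (38, 3), (39, 2), (40, 4), (41, 6), (42, 4), (43, 5), (44, 5), (45, 5), (46, 7), (47, 4), (48, 4), (49, 4), (50, 9), (51, 3), (52, 6), (53, 4), (54, 4), (55, 6), (56, 3), (57, 7), (58, 3), (59, 4), (60, 4), (61, 10), (62, 4), (63, 4), (64,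 5), (65, 5), (66, 5), (67, 6), (68, 6), (69, 6), (70, 8), (71, 6), (72, 5), (73, 2), (74, 5), (75, 4), (76, 3), (77, 7), (78, 8), (79, 5), (80, 4), (81, 5), (82, 5), (83, 7), (84, 6), (85, 5), (86, 5), (87, 4), (88, 6), (89, 4), (90, 5), (91, 4), (92, 5), (93, 4), (94, 5), (95, 6), (96, 8), (97, 7), (98, 5), (99, 7), (100, 8), (101, 2), (102, 4), (103, 6), (104, 3), (105, 5), (106, 5), (107, 2), (108, 4), (109, 6), (110, 9), (111, 7), (112, 4), (113, 5), (114, 9), (115, 1), (117, 1), (118, 3), (119, 4), (120, 4), (121, 3), (122, 3), (123, 5), (124, 3), (125, 5), (126, 4), (127, 6), (128, 5), (129, 3), (130, 3), (131, 5), (132, 5), (133, 7), (134, 4), (135, 4), (136, 4), (137, 5), (138, 4), (139, 4), (140, 3), (141, 5), (142, 7), (143, 3), (144, 4), (145, 3), (146, 4), (147, 9), (148, 6), (149, 4), (150, 5), (151, 2), (152, 6), (153, 4), (154, 2), (155, 8), (156, 5), (157, 6), (158, 5), (159, 7), (160, 4), (161, 4), (162, 4), (163, 3), (164, 3), (165, 8), (166, 3), (167, 4), (168, 5),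 (169, 2), (170, 4), (171, 5), (172, 4), (173, 5), (174, 3), (175, 4), (176, 7), (177, 3), (178, 7), (179, 4), (180, 6), (181, 3), (182, 4), (183, 6), (184, 3), (185, 7), (186, 8), (187, 7), (188, 4), (189, 3), (190, 4), (191, 6), (192, 5), (193, 5), (194, 6), (195, 6), (196, 6), (197, 3), (198, 4), (199, 5), (200, 4), (201, 4), (202, 3), (203, 3), (204, 3), (205, 4), (206, 8), (207, 5), (208, 6), (209, 4), (210, 6), (211, 3), (212, 7), (213, 8), (214, 3), (215, 4), (216, 6), (217, 6), (218, 4), (219, 4), (220, 5), (221, 7), (222, 2), (223, 6), (224, 6), (225, 4), (226, 5), (227, 5), (228, 6), (229, 4), (230, 4), (231, 5), (232, 4), (233, 5), (234, 6), (235, 5), (236, 3), (237, 4), (238, 5), (239, 5), (240, 3), (241, 5), (242, 4), (243, 4), (244, 6), (245, 6), (246, 6), (247, 5), (248, 8), (249, 5), (250, 6), (251, 4), (252, 4), (253, 6), (254, 5), (255, 4), (256, 7), (257, 6), (258, 7), (259, 3), (260, 6), (261, 5), (262, 9), (263, 6), (264, 5), (265, 4), (266, 9), (267, 7), (268, 9),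 (269, 3), (270, 5), (271, 4), (272, 6), (273, 5), (274, 3), (275, 4), (276, 7), (277, 4), (278, 7), (279, 7), (280, 3), (281, 6), (282, 5), (283, 4), (284, 5), (285, 5), (286, 6), (287, 5), (288, 4), (289, 4), (290, 6), (291, 7), (292, 4), (293, 5), (294, 5), (295, 4), (296, 6), (297, 4), (298, 7), (299, 5), (300, 3), (301, 5), (302, 5), (303, 2), (304, 3), (305, 7), (306, 4), (307, 4), (308, 7), (309, 7), (310, 5), (311, 6), (312, 3), (313, 7), (314, 7), (315, 7), (316, 6), (317, 6), (318, 6), (319, 6), (320, 5), (321, 7), (322, 5), (323, 4), (324, 4), (325, 5), (326, 4), (327, 7), (328, 2), (329, 4), (330, 4), (331, 6), (332, 4), (333, 4), (334, 7), (335, 7), (336, 7), (337, 7), (338, 8), (339, 7), (340, 6), (341, 8), (342, 5), (343, 5), (344, 7), (345, 7), (346, 5), (347, 5), (348, 4), (349, 5), (350, 6), (351, 4), (352, 10), (353, 7), (354, 6), (355, 6), (356, 10), (357, 6), (358, 8), (359, 6), (360, 4), (361, 4), (362, 6), (363, 6), (364, 8), (365, 6), (366, 7), (367, 8), (368,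 3), (369, 3), (370, 4), (371, 7), (372, 5), (373, 5), (374, 2), (375, 3), (376, 7), (377, 7), (378, 4), (379, 5), (380, 5), (381, 4), (382, 6), (383, 6), (384, 3), (385, 6), (386, 5), (387, 2), (388, 3), (389, 4), (390, 5), (391, 5), (392, 4), (393, 5), (394, 5), (395, 8), (396, 3), (397, 3), (398, 4), (399, 3), (400, 4), (401, 5), (402, 8), (403, 6), (404, 6), (405, 6), (406, 7), (407, 4), (408, 5), (409, 4), (410, 5), (411, 6), (412, 3), (413, 4), (414, 7), (415, 5), (416, 6), (417, 8), (418, 7), (419, 5), (420, 6), (421, 6), (422, 9), (423, 7), (424, 8), (425, 4), (426, 7), (427, 4), (428, 6), (429, 6), (430, 6), (431, 8), (432, 4), (433, 3), (434, 4), (435, 6), (436, 7), (437, 3), (438, 5), (439, 2), (440, 8), (441, 7), (442, 3), (443, 5), (444, 6), (445, 3), (446, 3), (447, 7), (448, 6), (449, 2), (450, 2), (451, 5), (452, 6), (453, 8), (454, 4), (455, 4), (456, 8), (457, 5), (458, 3), (459, 3), (460, 6), (461, 5), (462, 4), (463, 7), (464, 7), (465, 4), (466, 4), (467, 6), (468,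 4), (469, 5), (470, 6), (471, 4), (472, 6), (473, 4), (474, 6), (475, 6), (476, 7), (477, 7), (478, 6), (479, 2), (480, 5), (481, 7), (482, 6), (483, 4), (484, 6), (485, 5), (486, 6), (487, 4), (488, 5), (489, 5), (490, 4), (491, 4), (492, 8), (493, 4), (494, 6), (495, 6), (496, 7), (497, 4), (498, 6), (499, 4), (500, 5), (501, 5), (502, 7), (503, 4), (504, 5), (505, 5), (506, 6), (507, 5), (508, 8), (509, 4), (510, 9), (511, 6), (512, 6), (513, 9), (514, 4), (515, 5), (516, 6), (517, 7), (518, 7), (519, 2), (520, 4), (521, 6), (522, 6), (523, 5), (524, 6), (525, 3), (526, 4), (527, 5), (528, 9), (529, 6), (530, 6), (531, 3), (532, 5), (533, 7), (534, 9), (535, 6), (536, 8), (537, 6), (538, 4), (539, 5), (540, 5), (541, 9), (542, 4), (543, 6), (544, 6), (545, 5), (546, 4), (547, 4), (548, 6), (549, 7), (550, 3), (551, 5), (552, 7), (553, 6), (554, 2), (555, 6), (556, 7), (557, 8), (558, 5), (559, 8), (560, 2), (561, 7), (562, 5), (563, 5), (564, 2), (565, 4), (566, 9), (567, 8), (568,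 2), (569, 1), (570, 3), (571, 8), (572, 4), (573, 6), (574, 5), (575, 9), (576, 4), (577, 6), (578, 4), (579, 8), (580, 4), (581, 5), (583, 4), (584, 1), (585, 6), (586, 9), (587, 4), (588, 3), (589, 3), (590, 2), (591, 2), (592, 1), (594, 1), (595, 2), (596, 1), (597, 1), (598, 3), (599, 4), (600, 3), (601, 4), (602, 2), (603, 5), (604, 4), (605, 6), (606, 3), (607, 5), (608, 7), (609, 6), (610, 6), (611, 9), (612, 3), (613, 3), (614, 6), (615, 5), (616, 6), (617, 9), (618, 4), (619, 6), (620, 5), (621, 6), (622, 4), (623, 3), (624, 4), (625, 5), (626, 4), (627, 4), (628, 5), (629, 3), (630, 7), (631, 5), (632, 5), (633, 5), (634, 6), (635, 6), (636, 6), (637, 5), (638, 7), (639, 7), (640, 5), (641, 5), (642, 5), (643, 5), (644, 8), (645, 2), (646, 6), (647, 4), (648, 2), (649, 3), (650, 5), (651, 6), (652, 4), (653, 5), (654, 4), (655, 5), (656, 7), (657, 6), (658, 5), (659, 8), (660, 4), (661, 6), (662, 5), (663, 6), (664, 7), (665, 6), (666, 4), (667, 5), (668, 4), (669, 4), (670,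 4), (671, 5), (672, 2), (673, 5), (674, 4), (675, 3), (676, 6), (677, 6), (678, 6), (679, 5), (680, 4), (681, 7), (682, 7), (683, 4), (684, 4), (685, 7), (686, 4), (687, 6), (688, 7), (689, 5), (690, 5), (691, 4), (692, 4), (693, 5), (694, 3), (695, 6), (696, 6), (697, 6), (698, 6), (699, 5), (700, 7), (701, 5), (702, 7), (703, 6), (704, 9), (705, 5), (706, 8), (707, 7), (708, 8), (709, 4), (710, 3), (711, 3), (712, 4), (713, 5), (714, 6), (715, 5), (716, 5), (717, 5), (718, 6), (719, 3), (720, 4), (721, 7), (722, 5), (723, 6), (724, 9), (725, 3), (726, 6), (727, 6), (728, 5), (729, 3), (730, 8), (731, 5), (732, 4), (733, 5), (734, 4), (735, 3), (736, 2), (737, 1), (739, 1), (740, 5), (741, 4), (742, 4), (743, 6), (744, 5), (745, 3), (746, 3), (747, 5), (748, 7), (749, 7), (750, 5), (751, 5), (752, 5), (753, 7), (754, 7), (755, 4), (756, 3), (757, 4), (758, 6), (759, 7), (760, 6), (761, 7), (762, 6), (763, 3), (764, 5), (765, 4), (766, 3), (767, 5), (768, 6), (769, 5), (770, 4), (771,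 5), (772, 5), (773, 6), (774, 5), (775, 4), (776, 5), (777, 4), (778, 5), (779, 5), (780, 4), (781, 3), (782, 7), (783, 6), (784, 6), (785, 10), (786, 6), (787, 5), (788, 3), (789, 3), (790, 3), (791, 1), (792, 2), (793, 2), (794, 7), (795, 3), (796, 4), (797, 6), (798, 5), (799, 6), (800, 5), (801, 6), (802, 5), (803, 1), (804, 5), (805, 5), (806, 6), (807, 5), (808, 5), (809, 5), (810, 4), (811, 3), (812, 9), (813, 6), (814, 6), (815, 4), (816, 6), (817, 6), (818, 5), (819, 5), (820, 5), (821, 5), (822, 3), (823, 8), (824, 4), (825, 4), (826, 6), (827, 7), (828, 9), (829, 7), (830, 4), (831, 8), (832, 7), (833, 8), (834, 13), (835, 5), (836, 3), (837, 4), (838, 4), (839, 7), (840, 3), (841, 3), (842, 7), (843, 4), (844, 3), (845, 6), (846, 4), (847, 4), (848, 6), (849, 5), (850, 5), (851, 8), (852, 4), (853, 8), (854, 7), (855, 6), (856, 6), (857, 3), (858, 5), (859, 6), (860, 6), (861, 7), (862, 4), (863, 7), (864, 9), (865, 5), (866, 4), (867, 5), (868, 5), (869, 6), (870, 7), (871,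 8), (872, 6), (873, 6), (874, 8), (875, 5), (876, 5), (877, 9), (878, 7), (879, 6), (880, 6), (881, 6), (882, 4), (883, 5), (884, 4), (885, 5), (886, 6), (887, 6), (888, 7), (889, 5), (890, 3), (891, 6), (892, 5), (893, 6), (894, 3), (895, 4), (896, 4), (897, 6), (898, 6), (899, 4), (900, 9), (901, 5), (902, 6), (903, 4), (904, 5), (905, 4), (906, 3), (907, 7), (908, 5), (909, 7), (910, 8), (911, 5), (912, 5), (913, 3), (914, 7), (915, 5), (916, 6), (917, 3), (918, 6), (919, 5), (920, 7), (921, 4), (922, 6), (923, 3), (924, 3), (925, 2), (926, 6), (927, 3), (928, 7), (929, 8), (930, 6), (931, 5), (932, 7), (933, 4), (934, 4), (935, 7), (936, 6), (937, 4), (938, 4), (939, 6), (940, 5), (941, 6), (942, 5), (943, 6), (944, 5), (945, 4), (946, 3), (947, 5), (948, 3), (949, 6), (950, 4), (951, 5), (952, 5), (953, 4), (954, 3), (955, 5), (956, 5), (957, 8), (958, 5), (959, 6), (960, 8), (961, 5), (962, 5), (963, 8), (964, 6), (965, 7), (966, 4), (967, 7), (968, 7), (969, 6), (970, 6), (971,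 5), (972, 5), (973, 4), (974, 4), (975, 5), (976, 5), (977, 5), (978, 5), (979, 6), (980, 6), (981, 6), (982, 5), (983, 4), (984, 4), (985, 6), (986, 6), (987, 4), (988, 4), (989, 7), (990, 8), (991, 5), (992, 7), (993, 5), (994, 5), (995, 6), (996, 6), (997, 8), (998, 5), (999, 4), (1000, 4), (1001, 5), (1002, 3), (1003, 3), (1004, 7), (1005, 5), (1006, 3), (1007, 5), (1008, 7), (1009, 5), (1010, 6), (1011, 6), (1012, 7), (1013, 9), (1014, 10), (1015, 9), (1016, 7), (1017, 5), (1018, 4), (1019, 7), (1020, 5), (1021, 4), (1022, 5), (1023, 5), (1024, 4), (1025, 3), (1026, 5), (1027, 4), (1028, 5), (1029, 5), (1030, 5), (1031, 6), (1032, 5), (1033, 5), (1034, 5), (1035, 3), (1036, 6), (1037, 1), (1038, 5), (1039, 5), (1040, 4), (1041, 5), (1042, 8), (1043, 4), (1044, 4), (1045, 4), (1046, 4), (1047, 6), (1048, 5), (1049, 3), (1050, 5), (1051, 5), (1052, 6), (1053, 6), (1054, 6), (1055, 3), (1056, 4), (1057, 7), (1058, 4), (1059, 8), (1060, 7), (1061, 4), (1062, 5), (1063, 7), (1064, 4),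 (1065, 5), (1066, 6), (1067, 5), (1068, 8), (1069, 4), (1070, 11), (1071, 3), (1072, 5), (1073, 4), (1074, 6), (1075, 7), (1076, 2), (1077, 5), (1078, 4), (1079, 6), (1080, 7), (1081, 8), (1082, 5), (1083, 5), (1084, 5), (1085, 7), (1086, 6), (1087, 3), (1088, 7), (1089, 8), (1090, 5), (1091, 4), (1092, 6), (1093, 6), (1094, 7), (1095, 5), (1096, 5), (1097, 4), (1098, 7), (1099, 4), (1100, 6), (1101, 3), (1102, 5), (1103, 5), (1104, 7), (1105, 7), (1106, 5), (1107, 4), (1108, 4), (1109, 7), (1110, 5), (1111, 8), (1112, 5), (1113, 3), (1114, 5), (1115, 6), (1116, 6), (1117, 3), (1118, 5), (1119, 4), (1120, 8), (1121, 6), (1122, 5), (1123, 9), (1124, 8), (1125, 5), (1126, 8), (1127, 6), (1128, 4), (1129, 4), (1130, 8), (1131, 6), (1132, 8), (1133, 6), (1134, 8), (1135, 4), (1136, 4), (1137, 4), (1138, 8), (1139, 7), (1140, 9), (1141, 5), (1142, 3), (1143, 5), (1144, 5), (1145, 3), (1146, 3), (1147, 6), (1148, 5), (1149, 8), (1150, 3), (1151, 3), (1152, 2), (1153, 3), (1154, 2), (1155,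 4), (1156, 5), (1157, 7), (1158, 8), (1159, 7), (1160, 6), (1161, 4), (1162, 2), (1163, 4), (1164, 3), (1165, 5), (1166, 3), (1167, 3), (1168, 5), (1169, 2), (1170, 5), (1171, 7), (1172, 6), (1173, 8), (1174, 3), (1175, 1), (1176, 4), (1177, 2), (1178, 6), (1179, 6), (1180, 3), (1181, 2), (1182, 4), (1183, 1)] [] = true := by decide +kernel

theorem terms_ok : termsOK 10 bases tR cR T B terms = true := (termsOK_append _ _ (termsOK_append _ _ (termsOK_append _ _ (termsOK_append _ _ (termsOK_append _ _ (termsOK_append _ _ (termsOK_append _ _ (termsOK_append _ _ (termsOK_append _ _ (termsOK_append _ _ (termsOK_append _ _ terms0_ok terms1_ok) terms2_ok) terms3_ok) terms4_ok) terms5_ok) terms6_ok) terms7_ok) terms8_ok) terms9_ok) terms10_ok) terms11_ok)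

variable {V : Type*} [AddCommGroup V] [DistribMulAction (alternatingGroup (Fin 10)) V]

/-- The table acts by scalars as soon as its generators do. -/
theorem acts (hp : ∀ x : V, 5 • x = 0) (v : V)
    (hg : ∀ g ∈ gens, el 10 g.1 • v = g.2 • v) : Acts (n := 10) v B := by
  have z := zero_ok
  simp only [Bool.and_eq_true] at z
  refine acts_of_actsOK (by norm_num) hp v B gens (fun g hgm => ⟨?_, hg g hgm⟩) steps
    (Nat.eq_of_beq_eq_true z.1.1) (Nat.eq_of_beq_eq_true z.1.2) steps_ok
  have hr := goodTab_of_repsOK genWords rfl gens_ok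
  simp only [gens, List.mem_cons, List.not_mem_nil, or_false] at hgm
  rcases hgm with rfl | rfl | rfl | rfl | rfl
  · exact (show get 0x86975314206789543210987651234059876432109876504321 0 = 654820000545 by decide +kernel) ▸ hr 0 (by decide)
  · exact (show get 0x86975314206789543210987651234059876432109876504321 1 = 384523579920 by decide +kernel) ▸ hr 1 (by decide)
  · exact (show get 0x86975314206789543210987651234059876432109876504321 2 = 654820057920 by decide +kernel) ▸ hr 2 (by decide)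
  · exact (show get 0x86975314206789543210987651234059876432109876504321 3 = 444685627920 by decide +kernel) ▸ hr 3 (by decide)
  · exact (show get 0x86975314206789543210987651234059876432109876504321 4 = 578064421920 by decide +kernel) ▸ hr 4 (by decide)

/-- No nonzero vector satisfies the hypotheses. -/
theorem eq_zero (hp : ∀ x : V, 5 • x = 0) (hX : NoFix 10 V) (v : V)
    (hg : ∀ g ∈ gens, el 10 g.1 • v = g.2 • v) (h0 : bval (n := 10) v base0 = 0) : v = 0 := by
  have hB := acts hp v hg
  have z := zero_ok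
  have hR := reps_ok
  simp only [Bool.and_eq_true] at z hR
  have hb : ∀ b ∈ bases, GoodTab 10 b.tbl b.cnt ∧ bval (n := 10) v b = 0 := by
    intro b hb
    simp only [bases, List.mem_append, List.mem_cons, List.not_mem_nil, or_false] at hb
    rcases hb with ((rfl) | hb) | rfl
    · exact ⟨goodTab_of_repsOK baseWords0 rfl baseWords0_ok, h0⟩
    · exact fixesOK_spec (by norm_num) hp hX hB fixes fixes_ok b hb
    · exact trivBase_spec (by norm_num) hp (by norm_num) v
  have hT : GoodTab 10 T.tbl T.cnt := by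
    have hs := sub_ok
    simp only [subOK, Bool.and_eq_true, List.all_eq_true, List.mem_range, Nat.blt_eq] at hs
    intro k hk
    rw [Nat.eq_of_beq_eq_true (hs.2 k hk).1.1.2]
    exact hB.good _ (hs.2 k hk).1.1.1
  exact eq_zero_of_cert (by norm_num) hp hB sub_ok (by decide) (Nat.eq_of_beq_eq_true z.2)
    (termsOK_spec (by norm_num) hp hB hT tau_ok
      (goodTab_of_repsOK rWords (Nat.eq_of_beq_eq_true hR.1) hR.2) (fun b h => (hb b h).1)
      (fun b h => (hb b h).2) terms terms_ok) sum_ok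

end CfsgLib.AltCent.FiveB
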